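import Mathlib
import Groth.Prelude.Def_EtGlue

universe u
open TensorProduct

namespace Groth.Agent.Helper5.EtGlue

section Glue
variable {R S : Type u} [CommRing R] [CommRing S] [Algebra R S]

/-- the `R`-linear map `R/I → S/IS` -/
noncomputable def qLI (S : Type u) [CommRing S] [Algebra R S] (I : Ideal R) :
    (R ⧸ I) →ₗ[R] (S ⧸ Ideal.map (algebraMap R S) I) where
  toFun := Ideal.quotientMap _ (algebraMap R S) Ideal.le_comap_map
  map_add' := map_add _
  map_smul' r x := by
    obtain ⟨y, rfl⟩ := Ideal.Quotient.mk_surjective x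
    have e : r • (Ideal.Quotient.mk I y) = Ideal.Quotient.mk _ (r * y) := rfl
    rw [RingHom.id_apply, e, Ideal.quotientMap_mk, Ideal.quotientMap_mk, map_mul, map_mul,
      Algebra.smul_def]
    rfl

variable {I : Ideal R}
  (hq : Function.Bijective
    (Ideal.quotientMap (Ideal.map (algebraMap R S) I) (algebraMap R S) Ideal.le_comap_map))

noncomputable def betaI (P : Type u) [AddCommGroup P] [Module R P] :
    S ⊗[R] P →ₗ[R] P ⧸ (I • ⊤ : Submodule R P) :=
  (quotTensorEquivQuotSMul P I).toLinearMap ∘ₗ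
    (((LinearEquiv.ofBijective (qLI S I) hq).symm.toLinearMap ∘ₗ
      (Ideal.Quotient.mkₐ R _).toLinearMap).rTensor P)

theorem betaI_one_tmul (P : Type u) [AddCommGroup P] [Module R P] (p : P) :
    betaI hq P ((1 : S) ⊗ₜ[R] p) = Submodule.Quotient.mk p := by
  have h1 : (LinearEquiv.ofBijective (qLI S I) hq).symm
      ((Ideal.Quotient.mkₐ R (Ideal.map (algebraMap R S) I)) (1 : S)) = 1 := by
    rw [LinearEquiv.symm_apply_eq]
    show _ = Ideal.quotientMap _ (algebraMap R S) Ideal.le_comap_map 1
    rw [map_one, map_one]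
  simp only [betaI, LinearMap.coe_comp, LinearEquiv.coe_coe, Function.comp_apply,
    LinearMap.rTensor_tmul, AlgHom.toLinearMap_apply, h1]
  exact quotTensorEquivQuotSMul_mk_one_tmul _ _

theorem tmul_eq_zero_of_mem_map {T : Type u} [AddCommGroup T] [Module R T]
    (hT : ∀ a ∈ I, ∀ x : T, a • x = 0) {y : S} (hy : y ∈ Ideal.map (algebraMap R S) I) (t : T) :
    y ⊗ₜ[R] t = 0 := by
  have key : ∀ s' : S, (s' * y) ⊗ₜ[R] t = 0 := by
    rw [Ideal.map] at hy
    induction hy using Submodule.span_induction with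
    | mem z hz =>
      obtain ⟨a, ha, rfl⟩ := hz
      intro s'
      rw [mul_comm, ← Algebra.smul_def, smul_tmul, hT a ha, tmul_zero]
    | zero => intro s'; rw [mul_zero, zero_tmul]
    | add a b _ _ ha hb => intro s'; rw [mul_add, add_tmul, ha, hb, add_zero]
    | smul r a _ ha => intro s'; rw [smul_eq_mul, ← mul_assoc]; exact ha _
  simpa using key 1

include hq in
theorem bijective_of_smul_eq_zero {T : Type u} [AddCommGroup T] [Module R T]
    (hT : ∀ a ∈ I, ∀ x : T, a • x = 0) : Function.Bijective (TensorProduct.mk R S T 1) := by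
  constructor
  · intro t t' htt
    have h1 := congrArg (betaI hq T) htt
    simp only [TensorProduct.mk_apply, betaI_one_tmul] at h1
    rw [Submodule.Quotient.eq] at h1
    have h2 : (I • ⊤ : Submodule R T) ≤ ⊥ := by
      rw [Submodule.smul_le]
      intro a ha x _
      rw [hT a ha x]
      exact Submodule.zero_mem _
    exact sub_eq_zero.mp (by simpa using h2 h1)
  · intro z
    induction z using TensorProduct.induction_on with
    | zero => exact ⟨0, by simp⟩
    | tmul s t =>
      obtain ⟨x, hx⟩ := hq.2 (Ideal.Quotient.mk _ s)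
      obtain ⟨r, rfl⟩ := Ideal.Quotient.mk_surjective x
      rw [Ideal.quotientMap_mk, Ideal.Quotient.eq] at hx
      refine ⟨r • t, ?_⟩
      have h0 := tmul_eq_zero_of_mem_map hT hx t
      rw [sub_tmul, sub_eq_zero] at h0
      rw [TensorProduct.mk_apply, ← h0, Algebra.algebraMap_eq_smul_one, smul_tmul]
    | add x y hx hy =>
      obtain ⟨a, rfl⟩ := hx
      obtain ⟨b, rfl⟩ := hy
      exact ⟨a + b, map_add _ _ _⟩

include hq in
theorem bijective_of_pow_le_annihilator [Module.Flat R S] (E : ℕ) :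
    ∀ (T : Type u) [AddCommGroup T] [Module R T], I ^ E ≤ Module.annihilator R T →
      Function.Bijective (TensorProduct.mk R S T 1) := by
  induction E with
  | zero =>
    intro T _ _ hT
    have h1 : ∀ x : T, x = 0 := fun x => by
      have := Module.mem_annihilator.mp (hT (by simp : (1 : R) ∈ I ^ 0)) x
      simpa using this
    constructor
    · intro a b _
      rw [h1 a, h1 b]
    · intro z
      refine ⟨0, ?_⟩
      induction z using TensorProduct.induction_on with
      | zero => simp
      | tmul s t => rw [h1 t, tmul_zero, map_zero]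
      | add x y hx hy => rw [← hx, ← hy, map_zero, add_zero]
  | succ E ih =>
    intro T _ _ hT
    set T' : Submodule R T := I • ⊤ with hT'
    have hT'ann : I ^ E ≤ Module.annihilator R T' := by
      intro a ha
      rw [Module.mem_annihilator]
      rintro ⟨x, hx⟩
      apply Subtype.ext
      show a • x = 0
      refine Submodule.smul_induction_on hx ?_ ?_
      · intro b hb y _
        rw [smul_smul]
        exact Module.mem_annihilator.mp (hT (by rw [pow_succ]; exact Ideal.mul_mem_mul ha hb)) y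
      · intro x y hx hy
        rw [smul_add, hx, hy, add_zero]
    have hT''ann : ∀ a ∈ I, ∀ x : T ⧸ T', a • x = 0 := by
      intro a ha x
      obtain ⟨y, rfl⟩ := Submodule.Quotient.mk_surjective _ x
      rw [← Submodule.Quotient.mk_smul, Submodule.Quotient.mk_eq_zero]
      exact Submodule.smul_mem_smul ha Submodule.mem_top
    have b' := ih T' hT'ann
    have b'' := bijective_of_smul_eq_zero hq hT''ann
    have hinj' : Function.Injective (T'.subtype.lTensor S) :=
      Module.Flat.lTensor_preserves_injective_linearMap _ T'.injective_subtype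
    have hex : Function.Exact (T'.subtype.lTensor S) (T'.mkQ.lTensor S) :=
      lTensor_exact S (LinearMap.exact_subtype_mkQ T') (Submodule.mkQ_surjective T')
    constructor
    · rw [injective_iff_map_eq_zero]
      intro t ht
      have h1 : TensorProduct.mk R S (T ⧸ T') 1 (T'.mkQ t) = 0 := by
        have := congrArg (T'.mkQ.lTensor S) ht
        simpa using this
      have h2 : T'.mkQ t = 0 := b''.1 (h1.trans (map_zero _).symm)
      rw [Submodule.mkQ_apply, Submodule.Quotient.mk_eq_zero] at h2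
      have h3 : T'.subtype.lTensor S (TensorProduct.mk R S T' 1 ⟨t, h2⟩) = 0 := by
        simpa using ht
      have h4 := hinj' (h3.trans (map_zero _).symm)
      have h5 := b'.1 (h4.trans (map_zero _).symm)
      exact congrArg Subtype.val h5
    · intro z
      obtain ⟨t'', ht''⟩ := b''.2 (T'.mkQ.lTensor S z)
      obtain ⟨t₀, rfl⟩ := Submodule.Quotient.mk_surjective _ t''
      have h1 : T'.mkQ.lTensor S (z - TensorProduct.mk R S T 1 t₀) = 0 := by
        rw [map_sub, ← ht'']
        simp
      obtain ⟨w, hw⟩ := (hex _).mp h1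
      obtain ⟨t₁, rfl⟩ := b'.2 w
      refine ⟨t₀ + t₁.1, ?_⟩
      rw [map_add, eq_comm, ← sub_eq_iff_eq_add', ← hw]
      simp

include hq in
theorem bijective_of_pow_smul [Module.Flat R S] {t : ℕ} (f : Fin t → R)
    (hI : Ideal.span (Set.range f) = I) (T : Type u) [AddCommGroup T] [Module R T] (e : ℕ)
    (hT : ∀ i, ∀ x : T, f i ^ e • x = 0) : Function.Bijective (TensorProduct.mk R S T 1) := by
  have h1 : I ≤ (Module.annihilator R T).radical := by
    rw [← hI, Ideal.span_le]
    rintro _ ⟨i, rfl⟩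
    exact ⟨e, Module.mem_annihilator.mpr (hT i)⟩
  have h2 : I.FG := by
    rw [← hI]
    exact Submodule.fg_span (Set.finite_range f)
  obtain ⟨k, hk⟩ := Ideal.exists_pow_le_of_le_radical_of_fg h1 h2
  exact bijective_of_pow_le_annihilator hq k T hk

theorem eq_of_proj_lTensor {ι : Type} [Fintype ι] [DecidableEq ι] {M : Type u} [AddCommGroup M]
    [Module R M] (z z' : S ⊗[R] (ι → M))
    (h : ∀ i, (LinearMap.proj i : (ι → M) →ₗ[R] M).lTensor S z =
      (LinearMap.proj i : (ι → M) →ₗ[R] M).lTensor S z') : z = z' := by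
  apply (TensorProduct.piRight R R S (fun _ : ι => M)).injective
  have key : ∀ (w : S ⊗[R] (ι → M)) (i : ι), TensorProduct.piRight R R S (fun _ : ι => M) w i =
      (LinearMap.proj i : (ι → M) →ₗ[R] M).lTensor S w := by
    intro w i
    induction w using TensorProduct.induction_on with
    | zero => simp
    | tmul s g => simp
    | add x y hx hy => rw [map_add, map_add, Pi.add_apply, hx, hy]
  funext i
  rw [key, key, h]

include hq in
theorem glue_aux [Module.Flat R S] {t : ℕ} (f : Fin t → R)
    (hI : Ideal.span (Set.range f) = I) (M : Type u) [AddCommGroup M] [Module R M] (N : ℕ)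
    (x : S ⊗[R] M) (m : Fin t → M) (h1 : ∀ i, f i ^ N • x = (1 : S) ⊗ₜ[R] m i)
    (h2 : ∀ i j, f j ^ N • m i = f i ^ N • m j) :
    ∃ μ : M, (1 : S) ⊗ₜ[R] μ = x ∧ ∀ i, f i ^ N • μ = m i := by
  let d0 : M →ₗ[R] (Fin t → M) := LinearMap.pi (fun i => f i ^ N • LinearMap.id)
  let d1 : (Fin t → M) →ₗ[R] (Fin t × Fin t → M) :=
    LinearMap.pi (fun p => f p.2 ^ N • LinearMap.proj p.1 - f p.1 ^ N • LinearMap.proj p.2)
  have hd1 : ∀ (g : Fin t → M), g ∈ LinearMap.ker d1 ↔ ∀ i j, f j ^ N • g i = f i ^ N • g j := by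
    intro g
    rw [LinearMap.mem_ker]
    constructor
    · intro hg i j
      have := congrFun hg (i, j)
      simpa [d1, sub_eq_zero] using this
    · intro hg
      funext p
      simp [d1, hg p.1 p.2]
  have hd0mem : ∀ μ : M, d0 μ ∈ LinearMap.ker d1 := by
    intro μ
    rw [hd1]
    intro i j
    simp [d0, smul_smul, mul_comm]
  let d0' : M →ₗ[R] LinearMap.ker d1 := d0.codRestrict _ hd0mem
  let mΓ : LinearMap.ker d1 := ⟨m, (hd1 m).mpr h2⟩
  -- H is killed by the `f k ^ N`
  have hHkill : ∀ k, ∀ y : (LinearMap.ker d1) ⧸ LinearMap.range d0', f k ^ N • y = 0 := by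
    intro k y
    obtain ⟨γ, rfl⟩ := Submodule.Quotient.mk_surjective _ y
    rw [← Submodule.Quotient.mk_smul, Submodule.Quotient.mk_eq_zero]
    refine ⟨γ.1 k, Subtype.ext ?_⟩
    funext i
    have := (hd1 γ.1).mp γ.2 i k
    simpa [d0', d0] using this.symm
  have bH := bijective_of_pow_smul hq f hI _ N hHkill
  -- `(S ⊗ d0) x = 1 ⊗ m`
  have hx1 : d0.lTensor S x = (1 : S) ⊗ₜ[R] m := by
    apply eq_of_proj_lTensor
    intro i
    rw [← LinearMap.comp_apply, ← LinearMap.lTensor_comp, LinearMap.lTensor_tmul]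
    have : (LinearMap.proj i : (Fin t → M) →ₗ[R] M) ∘ₗ d0 = f i ^ N • LinearMap.id :=
      LinearMap.ext fun _ => rfl
    rw [this, LinearMap.lTensor_smul, LinearMap.lTensor_id, LinearMap.smul_apply,
      LinearMap.id_apply, h1]
    rfl
  have hinjΓ : Function.Injective ((LinearMap.ker d1).subtype.lTensor S) :=
    Module.Flat.lTensor_preserves_injective_linearMap _ (LinearMap.ker d1).injective_subtype
  have hx2 : d0'.lTensor S x = (1 : S) ⊗ₜ[R] mΓ := by
    apply hinjΓ
    rw [← LinearMap.comp_apply, ← LinearMap.lTensor_comp, LinearMap.lTensor_tmul]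
    exact hx1
  have hx3 : TensorProduct.mk R S _ 1 ((LinearMap.range d0').mkQ mΓ) = 0 := by
    have := congrArg ((LinearMap.range d0').mkQ.lTensor S) hx2
    rw [← LinearMap.comp_apply, ← LinearMap.lTensor_comp, LinearMap.range_mkQ_comp,
      LinearMap.lTensor_zero, LinearMap.zero_apply, LinearMap.lTensor_tmul] at this
    exact this.symm
  have hx4 := bH.1 (hx3.trans (map_zero _).symm)
  rw [Submodule.mkQ_apply, Submodule.Quotient.mk_eq_zero] at hx4
  obtain ⟨μ₀, hμ₀⟩ := hx4
  have hμ₀' : d0 μ₀ = m := congrArg Subtype.val hμ₀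
  -- second step
  have hex := Module.Flat.lTensor_exact S (LinearMap.exact_subtype_ker_map d0)
  have hx5 : d0.lTensor S (x - (1 : S) ⊗ₜ[R] μ₀) = 0 := by
    rw [map_sub, hx1, LinearMap.lTensor_tmul, hμ₀', sub_self]
  obtain ⟨w, hw⟩ := (hex _).mp hx5
  have hH0kill : ∀ k, ∀ y : LinearMap.ker d0, f k ^ N • y = 0 := by
    intro k y
    apply Subtype.ext
    have := congrFun (LinearMap.mem_ker.mp y.2) k
    simpa [d0] using this
  have bH0 := bijective_of_pow_smul hq f hI _ N hH0kill
  obtain ⟨μ₁, rfl⟩ := bH0.2 w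
  refine ⟨μ₀ + μ₁.1, ?_, ?_⟩
  · rw [tmul_add, eq_comm, ← sub_eq_iff_eq_add', ← hw]
    simp
  · intro i
    have h3 := congrFun hμ₀' i
    have h4 := congrFun (LinearMap.mem_ker.mp μ₁.2) i
    simp only [d0, LinearMap.pi_apply, LinearMap.smul_apply, LinearMap.id_apply,
      Pi.zero_apply] at h3 h4
    rw [smul_add, h3, h4, add_zero]

end Glue
theorem s7090 {R S : Type u} [CommRing R] [CommRing S] [Algebra R S] [Module.Flat R S]
    {t : ℕ} (f : Fin t → R) (I : Ideal R) (hI : Ideal.span (Set.range f) = I)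
    (hq : Function.Bijective
      (Ideal.quotientMap (Ideal.map (algebraMap R S) I) (algebraMap R S) Ideal.le_comap_map))
    (M : Type u) [AddCommGroup M] [Module R M] :
    (∀ m : M, (1 : S) ⊗ₜ[R] m = 0 →
        (∀ i : Fin t, LocalizedModule.mkLinearMap (Submonoid.powers (f i)) M m = 0) → m = 0) ∧
    ∀ (x : S ⊗[R] M) (N : ℕ) (m : Fin t → M),
      (∀ i : Fin t, EtGlue.locOfTensor R S (f i) M x =
          EtGlue.tensorOfLoc R S (f i) M (LocalizedModule.mk (m i) ⟨f i ^ N, Submonoid.pow_mem _ (Submonoid.mem_powers (f i)) N⟩)) →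
      (∀ i j : Fin t, ∃ e : ℕ, (f i * f j) ^ e • (f j ^ N • m i - f i ^ N • m j) = 0) →
        ∃ μ : M, (1 : S) ⊗ₜ[R] μ = x ∧
          ∀ i : Fin t, LocalizedModule.mkLinearMap (Submonoid.powers (f i)) M μ =
            LocalizedModule.mk (m i) ⟨f i ^ N, Submonoid.pow_mem _ (Submonoid.mem_powers (f i)) N⟩ := by
  constructor
  · intro m hm1 hm2
    have h1 : ∀ i, ∃ e : ℕ, f i ^ e • m = 0 := by
      intro i
      have := hm2 i
      rw [LocalizedModule.mkLinearMap_apply, ← LocalizedModule.zero_mk 1, LocalizedModule.mk_eq] at this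
      obtain ⟨⟨_, e, rfl⟩, he⟩ := this
      refine ⟨e, ?_⟩
      simpa [Submonoid.smul_def] using he
    choose e he using h1
    obtain ⟨E, hE⟩ : ∃ E, ∀ i, e i ≤ E :=
      ⟨Finset.univ.sup e, fun i => Finset.le_sup (Finset.mem_univ i)⟩
    have he' : ∀ i, f i ^ E • m = 0 := by
      intro i
      obtain ⟨d, hd⟩ := Nat.exists_eq_add_of_le (hE i)
      rw [hd, pow_add, mul_comm, mul_smul, he, smul_zero]
    let d0 : M →ₗ[R] (Fin t → M) := LinearMap.pi (fun i => f i ^ E • LinearMap.id)
    have hmk : m ∈ LinearMap.ker d0 := by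
      rw [LinearMap.mem_ker]
      funext i
      simpa [d0] using he' i
    have hkill : ∀ k, ∀ y : LinearMap.ker d0, f k ^ E • y = 0 := by
      intro k y
      apply Subtype.ext
      have := congrFun (LinearMap.mem_ker.mp y.2) k
      simpa [d0] using this
    have b := bijective_of_pow_smul hq f hI _ E hkill
    have hinj : Function.Injective ((LinearMap.ker d0).subtype.lTensor S) :=
      Module.Flat.lTensor_preserves_injective_linearMap _ (LinearMap.ker d0).injective_subtype
    have h3 : (LinearMap.ker d0).subtype.lTensor S (TensorProduct.mk R S _ 1 ⟨m, hmk⟩) = 0 := by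
      simpa using hm1
    have h4 := b.1 ((hinj (h3.trans (map_zero _).symm)).trans (map_zero _).symm)
    exact congrArg Subtype.val h4
  · intro x N m hx hm
    have h1 : ∀ i, ∃ c : ℕ, f i ^ c • f i ^ N • x = f i ^ c • ((1 : S) ⊗ₜ[R] m i) := by
      intro i
      have := hx i
      rw [EtGlue.locOfTensor, EtGlue.tensorOfLoc, LocalizedModule.mkLinearMap_apply,
        IsLocalizedModule.map_LocalizedModules, LocalizedModule.mk_eq] at this
      obtain ⟨⟨_, c, rfl⟩, hc⟩ := this
      refine ⟨c, ?_⟩
      simpa [Submonoid.smul_def] using hc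
    choose c hc using h1
    choose e he using hm
    obtain ⟨D, hcD, heD⟩ : ∃ D, (∀ i, c i ≤ D) ∧ ∀ i j, e i j ≤ D := by
      refine ⟨Finset.univ.sup c + Finset.univ.sup (fun p : Fin t × Fin t => e p.1 p.2),
        fun i => ?_, fun i j => ?_⟩
      · exact (Finset.le_sup (f := c) (Finset.mem_univ i)).trans (Nat.le_add_right _ _)
      · exact (Finset.le_sup (f := fun p : Fin t × Fin t => e p.1 p.2)
          (Finset.mem_univ (i, j))).trans (Nat.le_add_left _ _)
    have hc' : ∀ i, f i ^ (N + D) • x = (1 : S) ⊗ₜ[R] (f i ^ D • m i) := by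
      intro i
      obtain ⟨d, hd⟩ := Nat.exists_eq_add_of_le (hcD i)
      rw [tmul_smul, hd]
      calc f i ^ (N + (c i + d)) • x = f i ^ d • (f i ^ c i • f i ^ N • x) := by
            rw [smul_smul, smul_smul]; congr 1; ring
        _ = f i ^ d • (f i ^ c i • ((1 : S) ⊗ₜ[R] m i)) := by rw [hc]
        _ = f i ^ (c i + d) • ((1 : S) ⊗ₜ[R] m i) := by
            rw [smul_smul]; congr 1; ring
    have he' : ∀ i j, f j ^ (N + D) • f i ^ D • m i = f i ^ (N + D) • f j ^ D • m j := by
      intro i j
      obtain ⟨d, hd⟩ := Nat.exists_eq_add_of_le (heD i j)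
      rw [← sub_eq_zero]
      have : f j ^ (N + D) • f i ^ D • m i - f i ^ (N + D) • f j ^ D • m j =
          (f i * f j) ^ d • ((f i * f j) ^ (e i j) • (f j ^ N • m i - f i ^ N • m j)) := by
        simp only [smul_sub, smul_smul]
        rw [hd]
        congr 2 <;> ring
      rw [this, he, smul_zero]
    obtain ⟨μ, hμ1, hμ2⟩ := glue_aux hq f hI M (N + D) x (fun i => f i ^ D • m i) hc' he'
    refine ⟨μ, hμ1, fun i => ?_⟩
    rw [LocalizedModule.mkLinearMap_apply, LocalizedModule.mk_eq]
    refine ⟨⟨f i ^ D, D, rfl⟩, ?_⟩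
    have := hμ2 i
    simp only [Submonoid.smul_def, one_smul]
    rw [smul_smul, ← pow_add, add_comm D N]
    exact this

end Groth.Agent.Helper5.EtGlue
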