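import Mathlib
import Groth.Prelude.Def_EtGlue
import Groth.Prelude.Def_DRing3
import Groth.Agent.Lib.Helper1.TorL

universe u
open TensorProduct CategoryTheory CategoryTheory.Limits

namespace Groth.Agent.Helper5.EtGlue
open Groth.Agent.Helper1.TorL

variable {R R' : Type u} [CommRing R] [CommRing R'] [Algebra R R'] {f : R}

theorem exists_decomp (h : EtGlue.IsGlueingPair R R' f) {n : ℕ} (hn : 0 < n) (r' : R') :
    ∃ (r : R) (s' : R'), r' = algebraMap R R' r + algebraMap R R' (f ^ n) * s' := by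
  obtain ⟨x, hx⟩ := (h.1 n hn).2 (Ideal.Quotient.mk _ r')
  obtain ⟨r, rfl⟩ := Ideal.Quotient.mk_surjective x
  rw [Ideal.quotientMap_mk, Ideal.Quotient.eq, Ideal.map_span, Set.image_singleton,
    Ideal.mem_span_singleton'] at hx
  obtain ⟨a, ha⟩ := hx
  exact ⟨r, -a, by linear_combination ha⟩

theorem eq_zero_of_torsion (h : EtGlue.IsGlueingPair R R' f) {a : R} {m : ℕ} (ha : f ^ m * a = 0)
    (ha' : algebraMap R R' a = 0) : a = 0 := by
  apply h.2.1
  simp only [map_zero, Prod.mk.injEq]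
  refine ⟨ha', ?_⟩
  rw [IsLocalization.map_eq_zero_iff (Submonoid.powers f)]
  exact ⟨⟨f ^ m, m, rfl⟩, ha⟩

theorem exists_torsion_lift (h : EtGlue.IsGlueingPair R R' f) {x : R'} {n : ℕ}
    (hx : algebraMap R R' (f ^ n) * x = 0) :
    ∃ a : R, f ^ n * a = 0 ∧ algebraMap R R' a = x := by
  have h0 : algebraMap R' (Localization.Away (algebraMap R R' f)) x = 0 := by
    rw [IsLocalization.map_eq_zero_iff (Submonoid.powers (algebraMap R R' f))]
    exact ⟨⟨algebraMap R R' f ^ n, n, rfl⟩, by simpa using hx⟩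
  obtain ⟨r, hr1, hr2⟩ := h.2.2.1 x 0 (by rw [h0, map_zero])
  rw [IsLocalization.map_eq_zero_iff (Submonoid.powers f)] at hr2
  obtain ⟨⟨_, m, rfl⟩, hm⟩ := hr2
  refine ⟨r, ?_, hr1⟩
  apply eq_zero_of_torsion h (m := m)
  · rw [mul_left_comm, hm, mul_zero]
  · rw [map_mul, hr1]; exact hx

/-- Elements of `R' ⊗ K` are of the form `1 ⊗ k` when `K` is `f`-power torsion. -/
theorem exists_one_tmul (h : EtGlue.IsGlueingPair R R' f) {K : Type u} [AddCommGroup K] [Module R K]
    (hK : ∀ k : K, ∃ m : ℕ, f ^ m • k = 0) (z : R' ⊗[R] K) : ∃ k : K, z = (1 : R') ⊗ₜ[R] k := by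
  induction z using TensorProduct.induction_on with
  | zero => exact ⟨0, (tmul_zero _ _).symm⟩
  | tmul r' k =>
    obtain ⟨m, hm⟩ := hK k
    have hm' : f ^ (m + 1) • k = 0 := by rw [pow_succ', mul_smul, hm, smul_zero]
    obtain ⟨r, s', rfl⟩ := exists_decomp h (Nat.succ_pos m) r'
    refine ⟨r • k, ?_⟩
    rw [add_tmul, ← Algebra.smul_def, smul_tmul, hm', tmul_zero, add_zero,
      Algebra.algebraMap_eq_smul_one, smul_tmul]
  | add x y hx hy =>
    obtain ⟨k₁, rfl⟩ := hx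
    obtain ⟨k₂, rfl⟩ := hy
    exact ⟨k₁ + k₂, (tmul_add _ _ _).symm⟩

/-- `Tor₁(R', Y) = 0` for a quotient `Y` of `R` by an `f`-power torsion ideal. -/
theorem isZero_tor_one_of_quotient (h : EtGlue.IsGlueingPair R R' f) {Y : Type u} [AddCommGroup Y]
    [Module R Y] (q : R →ₗ[R] Y) (hq : Function.Surjective q)
    (hK : ∀ a : R, q a = 0 → ∃ m : ℕ, f ^ m * a = 0) :
    IsZero (T 1 (ModuleCat.of R R') (ModuleCat.of R Y)) := by
  rw [isZero_tor_one_iff_lTensor_injective (LinearMap.ker q).subtype q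
    (LinearMap.ker q).injective_subtype hq (LinearMap.exact_subtype_ker_map q) R']
  rw [injective_iff_map_eq_zero]
  intro z hz
  obtain ⟨k, rfl⟩ := exists_one_tmul h (K := LinearMap.ker q) (fun k => by
    obtain ⟨m, hm⟩ := hK k.1 k.2
    exact ⟨m, Subtype.ext (by simpa using hm)⟩) z
  rw [LinearMap.lTensor_tmul] at hz
  have h2 := congrArg (TensorProduct.rid R R') hz
  rw [TensorProduct.rid_tmul, map_zero, Submodule.subtype_apply, ← Algebra.algebraMap_eq_smul_one] at h2
  obtain ⟨m, hm⟩ := hK k.1 k.2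
  have : k = 0 := Subtype.ext (eq_zero_of_torsion h hm h2)
  rw [this, tmul_zero]

end Groth.Agent.Helper5.EtGlue

namespace Groth.Agent.Helper5.EtGlue
open Groth.Agent.Helper1.TorL

theorem s7062 {R R' : Type u} [CommRing R] [CommRing R'] [Algebra R R']
    (f : R) (h : EtGlue.IsGlueingPair R R' f) (n : ℕ) :
    Subsingleton (DRing.Tor R 1 R' ↥(Ideal.span ({f ^ n} : Set R))) := by
  apply ModuleCat.subsingleton_of_isZero
  refine isZero_tor_one_of_quotient h
    ((LinearMap.toSpanSingleton R R (f ^ n)).codRestrict (Ideal.span {f ^ n})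
      (fun r => Ideal.mem_span_singleton'.mpr ⟨r, rfl⟩)) ?_ ?_
  · rintro ⟨y, hy⟩
    obtain ⟨a, rfl⟩ := Ideal.mem_span_singleton'.mp hy
    exact ⟨a, rfl⟩
  · intro a ha
    refine ⟨n, ?_⟩
    have := congrArg Subtype.val ha
    simpa [mul_comm] using this

theorem s7063 {R R' : Type u} [CommRing R] [CommRing R']
    [Algebra R R'] (f : R) (h : EtGlue.IsGlueingPair R R' f) :
    Subsingleton (DRing.Tor R 1 R' (R ⧸ DRing.torsionSub (Ideal.span ({f} : Set R)) R)) := by
  apply ModuleCat.subsingleton_of_isZero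
  refine isZero_tor_one_of_quotient h (Submodule.mkQ _) (Submodule.mkQ_surjective _) ?_
  intro a ha
  rw [Submodule.mkQ_apply, Submodule.Quotient.mk_eq_zero] at ha
  obtain ⟨m, hm⟩ := ha
  exact ⟨m, hm _ (Ideal.pow_mem_pow (Ideal.mem_span_singleton_self f) m)⟩

end Groth.Agent.Helper5.EtGlue
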