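import Mathlib
import Groth.Agent.Lib.Helper5.EtGlue.Basic

universe u
open TensorProduct CategoryTheory CategoryTheory.Limits

namespace Groth.Agent.Helper5.EtGlue
open Groth.Agent.Helper1.TorL

variable {R R' : Type u} [CommRing R] [CommRing R'] [Algebra R R'] {f : R}

/-- the `R`-linear map `R/f^n → R'/f^n R'` -/
noncomputable def qL (R' : Type u) [CommRing R'] [Algebra R R'] (f : R) (n : ℕ) :
    (R ⧸ Ideal.span {f ^ n}) →ₗ[R]
      (R' ⧸ Ideal.map (algebraMap R R') (Ideal.span {f ^ n})) where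
  toFun := Ideal.quotientMap _ (algebraMap R R') Ideal.le_comap_map
  map_add' := map_add _
  map_smul' r x := by
    obtain ⟨y, rfl⟩ := Ideal.Quotient.mk_surjective x
    have e : r • (Ideal.Quotient.mk (Ideal.span {f ^ n}) y) = Ideal.Quotient.mk _ (r * y) := rfl
    rw [RingHom.id_apply, e, Ideal.quotientMap_mk, Ideal.quotientMap_mk, map_mul, map_mul,
      Algebra.smul_def]
    rfl

noncomputable def beta (h : EtGlue.IsGlueingPair R R' f) {n : ℕ} (hn : 0 < n)
    (P : Type u) [AddCommGroup P] [Module R P] :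
    R' ⊗[R] P →ₗ[R] P ⧸ ((Ideal.span {f ^ n} : Ideal R) • ⊤ : Submodule R P) :=
  (quotTensorEquivQuotSMul P (Ideal.span {f ^ n})).toLinearMap ∘ₗ
    (((LinearEquiv.ofBijective (qL R' f n) (h.1 n hn)).symm.toLinearMap ∘ₗ
      (Ideal.Quotient.mkₐ R _).toLinearMap).rTensor P)

theorem beta_one_tmul (h : EtGlue.IsGlueingPair R R' f) {n : ℕ} (hn : 0 < n)
    (P : Type u) [AddCommGroup P] [Module R P] (p : P) :
    beta h hn P ((1 : R') ⊗ₜ[R] p) = Submodule.Quotient.mk p := by
  have h1 : (LinearEquiv.ofBijective (qL R' f n) (h.1 n hn)).symm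
      ((Ideal.Quotient.mkₐ R (Ideal.map (algebraMap R R') (Ideal.span {f ^ n}))) (1 : R')) = 1 := by
    rw [LinearEquiv.symm_apply_eq]
    show _ = Ideal.quotientMap _ (algebraMap R R') Ideal.le_comap_map 1
    rw [map_one, map_one]
  simp only [beta, LinearMap.coe_comp, LinearEquiv.coe_coe, Function.comp_apply,
    LinearMap.rTensor_tmul, AlgHom.toLinearMap_apply, h1]
  exact quotTensorEquivQuotSMul_mk_one_tmul _ _

theorem isZero_tor_one_of_pow_smul (h : EtGlue.IsGlueingPair R R' f) {n : ℕ} (hn : 0 < n)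
    (N : Type u) [AddCommGroup N] [Module R N] (hN : ∀ x : N, f ^ n • x = 0) :
    IsZero (T 1 (ModuleCat.of R R') (ModuleCat.of R N)) := by
  set q : (N →₀ R) →ₗ[R] N := Finsupp.linearCombination R id with hq
  have hqs : Function.Surjective q := Finsupp.linearCombination_id_surjective R N
  rw [isZero_tor_one_iff_lTensor_injective (K := LinearMap.ker q) (F := N →₀ R) (Y := N)
    (LinearMap.ker q).subtype q
    (LinearMap.ker q).injective_subtype hqs (LinearMap.exact_subtype_ker_map q) R']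
  rw [injective_iff_map_eq_zero]
  intro z hz
  let μ : (N →₀ R) →ₗ[R] LinearMap.ker q :=
    LinearMap.codRestrict (LinearMap.ker q) (f ^ n • LinearMap.id) (fun x => by
      rw [LinearMap.mem_ker, LinearMap.smul_apply, LinearMap.id_apply, map_smul, hN])
  have hjμ : (LinearMap.ker q).subtype ∘ₗ μ = f ^ n • LinearMap.id := LinearMap.ext fun x => rfl
  have hμj : ∀ k : LinearMap.ker q, μ k.1 = f ^ n • k := fun k => Subtype.ext rfl
  -- Step A
  have hA : ∀ z : R' ⊗[R] LinearMap.ker q, ∃ (k : LinearMap.ker q) (w : R' ⊗[R] (N →₀ R)),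
      z = (1 : R') ⊗ₜ[R] k + μ.lTensor R' w := by
    intro z
    induction z using TensorProduct.induction_on with
    | zero => exact ⟨0, 0, by simp⟩
    | tmul r' k =>
      obtain ⟨r, s', rfl⟩ := exists_decomp h hn r'
      refine ⟨r • k, s' ⊗ₜ k.1, ?_⟩
      rw [add_tmul, ← Algebra.smul_def, smul_tmul, LinearMap.lTensor_tmul, hμj,
        Algebra.algebraMap_eq_smul_one, smul_tmul]
    | add x y hx hy =>
      obtain ⟨k₁, w₁, rfl⟩ := hx
      obtain ⟨k₂, w₂, rfl⟩ := hy
      exact ⟨k₁ + k₂, w₁ + w₂, by rw [tmul_add, map_add]; abel⟩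
  obtain ⟨k, w, rfl⟩ := hA z
  -- Step B
  rw [map_add, LinearMap.lTensor_tmul, ← LinearMap.comp_apply, ← LinearMap.lTensor_comp, hjμ,
    LinearMap.lTensor_smul, LinearMap.lTensor_id, LinearMap.smul_apply, LinearMap.id_apply] at hz
  have hB := congrArg (beta h hn (N →₀ R)) hz
  rw [map_add, beta_one_tmul, map_smul, map_zero] at hB
  have hB2 : f ^ n • (beta h hn (N →₀ R) w) = 0 := by
    obtain ⟨v, hv⟩ := Submodule.Quotient.mk_surjective _ (beta h hn (N →₀ R) w)
    rw [← hv, ← Submodule.Quotient.mk_smul, Submodule.Quotient.mk_eq_zero]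
    exact Submodule.smul_mem_smul (Ideal.mem_span_singleton_self _) Submodule.mem_top
  rw [hB2, add_zero, Submodule.Quotient.mk_eq_zero, Submodule.ideal_span_singleton_smul] at hB
  obtain ⟨x, -, hx⟩ := hB
  replace hx : f ^ n • x = k.1 := hx
  have hk : k = μ x := Subtype.ext hx.symm
  rw [hk, ← LinearMap.lTensor_tmul, ← map_add]
  have hy0 : f ^ n • ((1 : R') ⊗ₜ[R] x + w) = 0 := by
    rw [smul_add, ← tmul_smul, hx]
    exact hz
  -- Step D
  let a₀ : (LinearMap.ker (LinearMap.lsmul R R (f ^ n))) →ₗ[R] R' :=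
    (Algebra.linearMap R R') ∘ₗ (Submodule.subtype _)
  let m : R' →ₗ[R] R' := f ^ n • LinearMap.id
  have hex : Function.Exact a₀ m := by
    intro x'
    constructor
    · intro hx'
      obtain ⟨a, ha, rfl⟩ := exists_torsion_lift h (n := n) (x := x')
        (by
          have : f ^ n • x' = 0 := hx'
          rwa [Algebra.smul_def] at this)
      exact ⟨⟨a, by simpa using ha⟩, rfl⟩
    · rintro ⟨⟨a, ha⟩, rfl⟩
      have ha' : f ^ n * a = 0 := by simpa using ha
      show f ^ n • algebraMap R R' a = 0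
      rw [Algebra.smul_def, ← map_mul, ha', map_zero]
  have hex' := Module.Flat.rTensor_exact (N →₀ R) hex
  obtain ⟨u, hu⟩ := (hex' _).mp (show m.rTensor (N →₀ R) ((1 : R') ⊗ₜ[R] x + w) = 0 by
    rw [LinearMap.rTensor_smul, LinearMap.rTensor_id]; exact hy0)
  rw [← hu]
  have hcomp : μ.lTensor R' ∘ₗ a₀.rTensor (N →₀ R) = 0 := by
    apply TensorProduct.ext'
    rintro ⟨a, ha⟩ x
    have ha' : f ^ n * a = 0 := by simpa using ha
    have h0 : a • μ x = 0 :=
      Subtype.ext (by show a • (f ^ n • x) = 0; rw [smul_smul, mul_comm, ha', zero_smul])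
    show algebraMap R R' a ⊗ₜ μ x = 0
    rw [Algebra.algebraMap_eq_smul_one, smul_tmul, h0, tmul_zero]
  exact LinearMap.congr_fun hcomp u

theorem isZero_tor_one_of_fg {X Q : Type u} [AddCommGroup X] [Module R X] [AddCommGroup Q]
    [Module R Q]
    (H : ∀ Q₀ : Submodule R Q, Q₀.FG → IsZero (T 1 (ModuleCat.of R X) (ModuleCat.of R Q₀))) :
    IsZero (T 1 (ModuleCat.of R X) (ModuleCat.of R Q)) := by
  rw [isZero_tor_one_iff X (ModuleCat.of R Q), injective_iff_map_eq_zero]
  intro z hz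
  obtain ⟨Q₀, hfin, hQ₀⟩ := TensorProduct.exists_finite_submodule_right_of_setFinite {z}
    (Set.finite_singleton z)
  obtain ⟨z₀, rfl⟩ := hQ₀ (Set.mem_singleton z)
  have H0 := (isZero_tor_one_iff X (ModuleCat.of R Q₀)).mp (H Q₀ (Module.Finite.iff_fg.mp hfin))
  have hcomm : (freePres (R := R) X).f.hom.rTensor Q (Q₀.subtype.lTensor _ z₀) =
      Q₀.subtype.lTensor _ ((freePres (R := R) X).f.hom.rTensor Q₀ z₀) := by
    rw [← LinearMap.comp_apply, ← LinearMap.comp_apply, LinearMap.rTensor_comp_lTensor,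
      LinearMap.lTensor_comp_rTensor]
  have hinj : Function.Injective (Q₀.subtype.lTensor (freePres (R := R) X).X₂) :=
    Module.Flat.lTensor_preserves_injective_linearMap _ Q₀.injective_subtype
  have h1 := hinj ((hcomm.symm.trans hz).trans (map_zero _).symm)
  have h2 := H0 (h1.trans (map_zero _).symm)
  rw [h2, map_zero]

theorem exists_pow_smul_eq_zero (f : R) (M : Type u) [AddCommGroup M] [Module R M]
    (x : LocalizedModule (Submonoid.powers f) M ⧸
      LinearMap.range (LocalizedModule.mkLinearMap (Submonoid.powers f) M)) :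
    ∃ m : ℕ, f ^ m • x = 0 := by
  obtain ⟨y, rfl⟩ := Submodule.Quotient.mk_surjective _ x
  induction y using LocalizedModule.induction_on with
  | h m s =>
    obtain ⟨_, k, rfl⟩ := s
    refine ⟨k, ?_⟩
    rw [← Submodule.Quotient.mk_smul, Submodule.Quotient.mk_eq_zero]
    refine ⟨m, ?_⟩
    rw [LocalizedModule.mkLinearMap_apply, LocalizedModule.smul'_mk]
    exact (LocalizedModule.mk_cancel (⟨f ^ k, k, rfl⟩ : Submonoid.powers f) m).symm

theorem exists_pow_smul_eq_zero_of_fg (f : R) {Q : Type u} [AddCommGroup Q] [Module R Q]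
    (hQ : ∀ x : Q, ∃ m : ℕ, f ^ m • x = 0) (Q₀ : Submodule R Q) (hfg : Q₀.FG) :
    ∃ n : ℕ, 0 < n ∧ ∀ x : Q₀, f ^ n • x = 0 := by
  obtain ⟨s, rfl⟩ := hfg
  choose m hm using hQ
  refine ⟨s.sum m + 1, Nat.succ_pos _, ?_⟩
  rintro ⟨x, hx⟩
  apply Subtype.ext
  show f ^ (s.sum m + 1) • x = 0
  induction hx using Submodule.span_induction with
  | mem y hy =>
    have : m y ≤ s.sum m + 1 := (Finset.single_le_sum (fun _ _ => Nat.zero_le _) hy).trans (Nat.le_succ _)
    obtain ⟨d, hd⟩ := Nat.exists_eq_add_of_le this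
    rw [hd, pow_add, mul_comm, mul_smul, hm, smul_zero]
  | zero => exact smul_zero _
  | add a b _ _ ha hb => rw [smul_add, ha, hb, add_zero]
  | smul r a _ ha => rw [smul_comm, ha, smul_zero]


theorem s7064 {R R' : Type u} [CommRing R] [CommRing R']
    [Algebra R R'] (f : R) (h : EtGlue.IsGlueingPair R R' f) (M : Type u) [AddCommGroup M]
    [Module R M] :
    Subsingleton (DRing.Tor R 1 R'
      (LocalizedModule (Submonoid.powers f) M ⧸
        LinearMap.range (LocalizedModule.mkLinearMap (Submonoid.powers f) M))) := by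
  apply ModuleCat.subsingleton_of_isZero
  apply isZero_tor_one_of_fg
  intro Q₀ hfg
  obtain ⟨n, hn, hQ₀⟩ := exists_pow_smul_eq_zero_of_fg f (exists_pow_smul_eq_zero f M) Q₀ hfg
  exact isZero_tor_one_of_pow_smul h hn Q₀ hQ₀

end Groth.Agent.Helper5.EtGlue
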